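import Cfsg.Agent.H323.QS.Triv
import Cfsg.Agent.H459.Ore.Frame
import Cfsg.Agent.H417.RecogMathieu
import Cfsg.Agent.Mrg.Omega.TwoF.RowFi
import Cfsg.Agent.S0254
import Cfsg.Prelude.Def_Sporadic

/-!
# S2491, S2492: the assembly with optional rows (after helper323, H323/QS/Asm.lean)

`QRows N` : the rows; the rows `psu62`, `te62`, `m22`, `fi22` are needed only if `N` holds: `N = True` for S2491, `N = False` for
S2492 (its hypotheses exclude these four groups).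
-/

set_option autoImplicit false

namespace Cfsg.Agent.H860.QS

open Cfsg.Agent.H777.Ore Cfsg.Agent.H51.Mult Cfsg.Agent.H6.QO Cfsg.Agent.H323.QS

universe u v

/-- the groups excluded in S2491 and S2492 -/
def ExN (K : Type u) [Group K] : Prop :=
  Nonempty (K ≃* alternatingGroup (Fin 6)) ∨ Nonempty (K ≃* alternatingGroup (Fin 7)) ∨
    (∃ (F : Type) (_ : Field F) (_ : Fintype F), Fintype.card F = 4 ∧
      Nonempty (K ≃* Matrix.ProjectiveSpecialLinearGroup (Fin 3) F)) ∨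
    (∃ (F : Type) (_ : Field F) (_ : Fintype F), Fintype.card F = 9 ∧ Nonempty (K ≃* Cfsg.PSU 4 F 3))

/-- the groups excluded only in S2492 -/
def ExA (K : Type u) [Group K] : Prop :=
  (∃ (F : Type) (_ : Field F) (_ : Fintype F), Fintype.card F = 4 ∧ Nonempty (K ≃* Cfsg.PSU 6 F 2)) ∨
    Spor.IsoM22 K ∨ Spor.IsoFi22 K ∨
    (∃ (F : Type) (_ : Field F) (_ : Fintype F), Fintype.card F = 4 ∧ Nonempty (K ≃* ↥(Lie.twistedE6 F 2)))

/-- the result of a row -/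
def Res (N : Prop) (K : Type u) [Group K] : Prop := ExN K ∨ RowA K ∨ (ExA K ∧ (N → RowN K))

/-- The rows to be filled in.  `ore` is S2443. -/
structure QRows (N : Prop) : Prop where
  ore : ∀ (K : Type u) [Group K] [Finite K] [IsSimpleGroup K], ¬ IsMulCommutative K → AllC K
  alt : ∀ (n : ℕ), 5 ≤ n → n ≠ 6 → n ≠ 7 → RowA (alternatingGroup (Fin n))
  psl : ∀ (F : Type) [Field F] [Fintype F] (n : ℕ), 2 ≤ n → (n = 2 → 4 ≤ Fintype.card F) →
    ¬ (n = 2 ∧ Fintype.card F = 9) → ¬ (n = 3 ∧ Fintype.card F = 4) →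
    RowA (Matrix.ProjectiveSpecialLinearGroup (Fin n) F)
  psp : ∀ (F : Type) [Field F] [Fintype F] (m : ℕ), 2 ≤ m → (m = 2 → 3 ≤ Fintype.card F) →
    ¬ (m = 3 ∧ Fintype.card F = 2) → RowA (PSp m F)
  psu : ∀ (F : Type) [Field F] [Fintype F] (n q : ℕ), Fintype.card F = q ^ 2 → 3 ≤ n → ¬ (n = 3 ∧ q = 2) →
    ¬ (n = 4 ∧ q = 3) → ¬ (n = 6 ∧ q = 2) → RowA (PSU n F q)
  psp62 : ∀ (F : Type) [Field F] [Fintype F], Fintype.card F = 2 → RowA (PSp 3 F)
  psu62 : N → ∀ (F : Type) [Field F] [Fintype F], Fintype.card F = 4 → RowN (PSU 6 F 2)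
  poo : ∀ (F : Type) [Field F] [Fintype F] (m : ℕ), 3 ≤ m → Odd (Fintype.card F) →
    RowA (POmega F (quadFormOdd m F))
  pop : ∀ (F : Type) [Field F] [Fintype F] (m : ℕ), 4 ≤ m → Odd (Fintype.card F) →
    RowA (POmega F (quadFormPlus m F))
  pop82 : ∀ (F : Type) [Field F] [Fintype F], Fintype.card F = 2 → RowA (POmega F (quadFormPlus 4 F))
  pom : ∀ (F : Type) [Field F] [Fintype F] (m : ℕ) (a b : F), 4 ≤ m → Odd (Fintype.card F) →
    (∀ z₁ z₂ : F, z₁ ^ 2 + a * z₁ * z₂ + b * z₂ ^ 2 = 0 → z₁ = 0 ∧ z₂ = 0) →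
    RowA (POmega F (quadFormMinus (m - 1) F a b))
  g23 : ∀ (F : Type) [Field F] [Fintype F], Fintype.card F = 3 → RowA ↥(Lie.chevG2.group F)
  g24 : ∀ (F : Type) [Field F] [Fintype F], Fintype.card F = 4 → RowA ↥(Lie.chevG2.group F)
  f42 : ∀ (F : Type) [Field F] [Fintype F], Fintype.card F = 2 → RowA ↥(Lie.chevF4.group F)
  e6 : ∀ (F : Type) [Field F] [Fintype F], 4 ≤ Nat.card F → RowA ↥(Lie.chevE6.group F)
  te6 : ∀ (F : Type) [Field F] [Fintype F] (q : ℕ), IsPrimePow q → Fintype.card F = q ^ 2 → 3 ∣ q + 1 → q ≠ 2 →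
    RowA ↥(Lie.twistedE6 F q)
  e7 : ∀ (F : Type) [Field F] [Fintype F], Odd (Fintype.card F) → RowA ↥(Lie.chevE7.group F)
  te62 : N → ∀ (F : Type) [Field F] [Fintype F], Fintype.card F = 4 → RowN ↥(Lie.twistedE6 F 2)
  sz8 : ∀ (F : Type) [Field F] [Fintype F], Fintype.card F = 8 → RowA ↥(Lie.Sz F 4)
  m22 : N → ∀ (K : Type u) [Group K], Spor.IsoM22 K → RowN K
  m12 : ∀ (K : Type u) [Group K], Spor.IsoM12 K → RowA K
  j2 : ∀ (K : Type u) [Group K], Spor.IsoJ2 K → RowA K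
  hs : ∀ (K : Type u) [Group K], Spor.IsoHS K → RowA K
  mcl : ∀ (K : Type u) [Group K], Spor.IsoMcL K → RowA K
  suz : ∀ (K : Type u) [Group K], Spor.IsoSuz K → RowA K
  j3 : ∀ (K : Type u) [Group K], Spor.IsoJ3 K → RowA K
  ru : ∀ (K : Type u) [Group K], Spor.IsoRu K → RowA K
  on : ∀ (K : Type u) [Group K], Spor.IsoON K → RowA K
  co1 : ∀ (K : Type u) [Group K], Spor.IsoCo1 K → RowA K
  fi22 : N → ∀ (K : Type u) [Group K], Spor.IsoFi22 K → RowN K
  fi24 : ∀ (K : Type u) [Group K], Spor.IsoFi24' K → RowA K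
  b : ∀ (K : Type u) [Group K], Spor.IsoB K → RowA K

section rows

variable {N : Prop} (Q : QRows.{u} N) {K : Type u} [Group K] (hC : AllC K)

omit Q in
theorem Res.a {N : Prop} {K : Type u} [Group K] (h : RowA K) : Res N K := Or.inr (Or.inl h)

include Q in
theorem res_alt (h : IsAlternating K) : Res N K := by
  obtain ⟨n, hn, ⟨e⟩⟩ := h
  by_cases h6 : n = 6
  · subst h6; exact Or.inl (Or.inl ⟨e⟩)
  by_cases h7 : n = 7
  · subst h7; exact Or.inl (Or.inr (Or.inl ⟨e⟩))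
  · exact Res.a ((Q.alt n hn h6 h7).congr e.symm)

include Q in
theorem res_psl (h : IsPSL K) : Res N K := by
  obtain ⟨F, _, _, n, hn, h4, ⟨e⟩⟩ := h
  by_cases h9 : n = 2 ∧ Fintype.card F = 9
  · obtain ⟨rfl, hF⟩ := h9
    obtain ⟨f⟩ := Cfsg.Agent.S0254.result hF
    exact Or.inl (Or.inl ⟨e.trans f⟩)
  by_cases h34 : n = 3 ∧ Fintype.card F = 4
  · obtain ⟨rfl, hF⟩ := h34
    exact Or.inl (Or.inr (Or.inr (Or.inl ⟨F, _, _, hF, ⟨e⟩⟩)))
  · exact Res.a ((Q.psl F n hn h4 h9 h34).congr e.symm)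

include Q in
theorem res_psp (h : IsPSp K) : Res N K := by
  obtain ⟨F, _, _, m, hm, h3, ⟨e⟩⟩ := h
  by_cases h62 : m = 3 ∧ Fintype.card F = 2
  · obtain ⟨rfl, hF⟩ := h62
    exact Res.a ((Q.psp62 F hF).congr e.symm)
  · exact Res.a ((Q.psp F m hm h3 h62).congr e.symm)

include Q in
theorem res_psu (h : IsPSU K) : Res N K := by
  obtain ⟨F, _, _, n, q, hF, hn, hex, ⟨e⟩⟩ := h
  by_cases h43 : n = 4 ∧ q = 3
  · obtain ⟨rfl, rfl⟩ := h43
    exact Or.inl (Or.inr (Or.inr (Or.inr ⟨F, _, _, by rw [hF]; norm_num, ⟨e⟩⟩)))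
  by_cases h62 : n = 6 ∧ q = 2
  · obtain ⟨rfl, rfl⟩ := h62
    exact Or.inr (Or.inr ⟨Or.inl ⟨F, _, _, by rw [hF]; norm_num, ⟨e⟩⟩,
      fun hN => (Q.psu62 hN F (by rw [hF]; norm_num)).congr e.symm⟩)
  · exact Res.a ((Q.psu F n q hF hn hex h43 h62).congr e.symm)

include Q in
theorem res_poo (h : IsPOmegaOdd K) : Res N K := by
  obtain ⟨F, _, _, m, hm, ho, ⟨e⟩⟩ := h
  exact Res.a ((Q.poo F m hm ho).congr e.symm)

include Q hC in
theorem res_pop (h : IsPOmegaPlus K) : Res N K := by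
  obtain ⟨F, _, _, m, hm, ⟨e⟩⟩ := h
  rcases Nat.even_or_odd (Fintype.card F) with he | ho
  · by_cases h42 : m = 4 ∧ Fintype.card F = 2
    · obtain ⟨rfl, hF⟩ := h42
      exact Res.a ((Q.pop82 F hF).congr e.symm)
    · exact Res.a (pop he hm h42 ⟨e⟩ hC)
  · exact Res.a ((Q.pop F m hm ho).congr e.symm)

include Q hC in
theorem res_pom (h : IsPOmegaMinus K) : Res N K := by
  obtain ⟨F, _, _, m, a, b, hm, hab, ⟨e⟩⟩ := h
  rcases Nat.even_or_odd (Fintype.card F) with he | ho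
  · exact Res.a (pom he hm hab ⟨e⟩ hC)
  · exact Res.a ((Q.pom F m a b hm ho hab).congr e.symm)

include Q hC in
theorem res_g2 (h : Lie.IsoChevG2 K) : Res N K := by
  obtain ⟨F, _, _, h3, ⟨e⟩⟩ := h
  by_cases hF3 : Fintype.card F = 3
  · exact Res.a ((Q.g23 F hF3).congr e.symm)
  by_cases hF4 : Fintype.card F = 4
  · exact Res.a ((Q.g24 F hF4).congr e.symm)
  · exact Res.a (g2 (by omega) ⟨e⟩ hC)

include Q hC in
theorem res_f4 (h : Lie.IsoF4 K) : Res N K := by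
  obtain ⟨F, _, _, ⟨e⟩⟩ := h
  have h1 : 1 < Fintype.card F := Fintype.one_lt_card
  by_cases hF2 : Fintype.card F = 2
  · exact Res.a ((Q.f42 F hF2).congr e.symm)
  · exact Res.a (f4 (by omega) ⟨e⟩ hC)

include Q hC in
theorem res_e6 (h : Lie.IsoChevE6 K) : Res N K := by
  obtain ⟨F, _, _, ⟨e⟩⟩ := h
  by_cases h3 : 3 ∣ Fintype.card F - 1
  · have h1 : 1 < Fintype.card F := Fintype.one_lt_card
    have h4 : 4 ≤ Nat.card F := by
      rw [Nat.card_eq_fintype_card]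
      omega
    exact Res.a ((Q.e6 F h4).congr e.symm)
  · exact Res.a (e6 h3 ⟨e⟩ hC)

include Q hC in
theorem res_e7 (h : Lie.IsoE7 K) : Res N K := by
  obtain ⟨F, _, _, ⟨e⟩⟩ := h
  rcases Nat.even_or_odd (Fintype.card F) with he | ho
  · exact Res.a (e7 he ⟨e⟩ hC)
  · exact Res.a ((Q.e7 F ho).congr e.symm)

include hC in
theorem res_e8 (h : Lie.IsoE8 K) : Res N K := by
  obtain ⟨F, _, _, ⟨e⟩⟩ := h
  exact Res.a (e8 ⟨e⟩ hC)

include Q hC in
theorem res_te6 (h : Lie.Iso2E6 K) : Res N K := by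
  obtain ⟨F, _, _, q, hq, hF, ⟨e⟩⟩ := h
  by_cases h2 : q = 2
  · subst h2
    exact Or.inr (Or.inr ⟨Or.inr (Or.inr (Or.inr ⟨F, _, _, by rw [hF]; norm_num, ⟨e⟩⟩)),
      fun hN => (Q.te62 hN F (by rw [hF]; norm_num)).congr e.symm⟩)
  by_cases h3 : 3 ∣ q + 1
  · exact Res.a ((Q.te6 F q hq hF h3 h2).congr e.symm)
  · exact Res.a (te6 hq hF h2 h3 ⟨e⟩ hC)

include hC in
theorem res_td4 (h : Lie.Iso3D4 K) : Res N K := by
  obtain ⟨F, _, _, q, hq, hF, ⟨e⟩⟩ := h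
  exact Res.a (td4 hq hF ⟨e⟩ hC)

include Q hC in
theorem res_sz (h : Lie.IsoSuzuki K) : Res N K := by
  obtain ⟨F, _, _, m, hm, hF, ⟨e⟩⟩ := h
  by_cases h1 : m = 1
  · subst h1
    exact Res.a ((Q.sz8 F (by rw [hF]; norm_num)).congr e.symm)
  · exact Res.a (sz (by omega) hF ⟨e⟩ hC)

end rows

theorem rows_cls {N : Prop} (Q : QRows.{u} N) : H459.Ore.ClsRows.{u} (fun G _ => AllC G → Res N G) where
  alt := fun h _ => res_alt Q h
  psl := fun h _ => res_psl Q h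
  psp := fun h _ => res_psp Q h
  psu := fun h _ => res_psu Q h
  poo := fun h _ => res_poo Q h
  pop := fun h hC => res_pop Q hC h
  pom := fun h hC => res_pom Q hC h

theorem rows_exc {N : Prop} (Q : QRows.{u} N) : H459.Ore.ExcRows.{u} (fun G _ => AllC G → Res N G) where
  g2 := fun h hC => res_g2 Q hC h
  f4 := fun h hC => res_f4 Q hC h
  e6 := fun h hC => res_e6 Q hC h
  e7 := fun h hC => res_e7 Q hC h
  e8 := fun h hC => res_e8 hC h
  te6 := fun h hC => res_te6 Q hC h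
  td4 := fun h hC => res_td4 hC h
  sz := fun h hC => res_sz Q hC h
  ree := fun h hC => Res.a (ree h hC)
  tf4 := fun h hC => Res.a (tf4 h hC)
  tits := fun h hC => Res.a (tits h hC)

theorem rows_spor {N : Prop} (Q : QRows.{u} N) : H459.Ore.SporRows.{u} (fun G _ => AllC G → Res N G) where
  m11 := fun h hC => Res.a (m11 h hC)
  m12 := fun h _ => Res.a (Q.m12 _ h)
  m22 := fun h _ => Or.inr (Or.inr ⟨Or.inr (Or.inl h), fun hN => Q.m22 hN _ h⟩)
  m23 := fun h hC => Res.a (m23 h hC)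
  m24 := fun h hC => Res.a (m24 h hC)
  j1 := fun h hC => Res.a (j1 h hC)
  j2 := fun h _ => Res.a (Q.j2 _ h)
  j3 := fun h _ => Res.a (Q.j3 _ h)
  j4 := fun h hC => Res.a (j4 h hC)
  co1 := fun h _ => Res.a (Q.co1 _ h)
  co2 := fun h hC => Res.a (co2 h hC)
  co3 := fun h hC => Res.a (co3 h hC)
  mcL := fun h _ => Res.a (Q.mcl _ h)
  hS := fun h _ => Res.a (Q.hs _ h)
  suz := fun h _ => Res.a (Q.suz _ h)
  he := fun h hC => Res.a (he h hC)
  ru := fun h _ => Res.a (Q.ru _ h)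
  oN := fun h _ => Res.a (Q.on _ h)
  ly := fun h hC => Res.a (ly h hC)
  fi22 := fun h _ => Or.inr (Or.inr ⟨Or.inr (Or.inr (Or.inl h)), fun hN => Q.fi22 hN _ h⟩)
  fi23 := fun h hC => Res.a (fi23 h hC)
  fi24 := fun h _ => Res.a (Q.fi24 _ h)
  hN := fun h hC => Res.a (hn h hC)
  th := fun h hC => Res.a (th h hC)
  b := fun h _ => Res.a (Q.b _ h)
  m := fun h hC => Res.a (mo h hC)

theorem main {N : Prop} (Q : QRows.{u} N) {K : Type u} [Group K] [Finite K] [IsSimpleGroup K]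
    (hna : ¬ IsMulCommutative K) (hK : IsKnownSimple' K) : Res N K :=
  H459.Ore.main (rows_cls Q) (rows_exc Q) (rows_spor Q) hna hK (Q.ore K hna)

/-! ### the statements -/

theorem not_comm_of_perfect {K : Type u} [Group K] [IsSimpleGroup K] (h : commutator K = ⊤) :
    ¬ IsMulCommutative K := by
  rintro ⟨⟨hc⟩⟩
  have h1 : commutator K = ⊥ := by
    rw [eq_bot_iff, _root_.commutator_def, Subgroup.commutator_le]
    intro a _ b _
    rw [Subgroup.mem_bot, commutatorElement_def, hc a b]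
    group
  rw [h1] at h
  exact bot_ne_top h

section final

variable {N : Prop} (Q : QRows.{u} N) (hkn : ∀ (K : Type u) [Group K] [Finite K] [IsSimpleGroup K], IsKnownSimple' K)
  {G : Type u} [Group G] [Finite G] (hperf : commutator G = ⊤) (hs : IsSimpleGroup (G ⧸ Subgroup.center G))
  (hA6 : ¬ Nonempty (G ⧸ Subgroup.center G ≃* alternatingGroup (Fin 6)))
  (hA7 : ¬ Nonempty (G ⧸ Subgroup.center G ≃* alternatingGroup (Fin 7)))
  (hL34 : ∀ (F : Type) [Field F] [Fintype F], Fintype.card F = 4 →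
    ¬ Nonempty (G ⧸ Subgroup.center G ≃* Matrix.ProjectiveSpecialLinearGroup (Fin 3) F))
  (hU43 : ∀ (F : Type) [Field F] [Fintype F], Fintype.card F = 9 →
    ¬ Nonempty (G ⧸ Subgroup.center G ≃* Cfsg.PSU 4 F 3))

include Q hkn hperf hs hA6 hA7 hL34 hU43

theorem res : RowA (G ⧸ Subgroup.center G) ∨
    (ExA (G ⧸ Subgroup.center G) ∧ (N → RowN (G ⧸ Subgroup.center G))) := by
  have hp : commutator (G ⧸ Subgroup.center G) = ⊤ := by
    have h1 := Subgroup.map_commutator (⊤ : Subgroup G) ⊤ (QuotientGroup.mk' (Subgroup.center G))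
    rw [← _root_.commutator_def, hperf, Subgroup.map_top_of_surjective _ (QuotientGroup.mk'_surjective _),
      ← _root_.commutator_def] at h1
    exact h1.symm
  rcases main Q (not_comm_of_perfect hp) (hkn (G ⧸ Subgroup.center G)) with h | h | h
  · exfalso
    rcases h with h | h | ⟨F, _, _, hF, h⟩ | ⟨F, _, _, hF, h⟩
    · exact hA6 h
    · exact hA7 h
    · exact hL34 F hF h
    · exact hU43 F hF h
  · exact Or.inl h
  · exact Or.inr h

theorem s2491 (hN : N) (g : G) (hg : g ∉ Subgroup.center G) : ∃ a b : G, a * b * a⁻¹ * b⁻¹ = g := by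
  have h : RowN (G ⧸ Subgroup.center G) := by
    rcases res Q hkn hperf hs hA6 hA7 hL34 hU43 with h | h
    · exact h.toN
    · exact h.2 hN
  obtain ⟨a, b, e⟩ := h.result hperf (MulEquiv.refl _) g hg
  exact ⟨a, b, e.symm⟩

theorem s2492
    (hU62 : ∀ (F : Type) [Field F] [Fintype F], Fintype.card F = 4 →
      ¬ Nonempty (G ⧸ Subgroup.center G ≃* Cfsg.PSU 6 F 2))
    (hM22 : ¬ Cfsg.IsM22 (G ⧸ Subgroup.center G)) (hFi22 : ¬ Cfsg.IsFi22 (G ⧸ Subgroup.center G))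
    (hE : Nat.card (G ⧸ Subgroup.center G) ≠ 76532479683774853939200)
    (hcard : ∀ (F : Type) [Field F] [Fintype F], Fintype.card F = 4 →
      Nat.card ↥(Lie.twistedE6 F 2) = 76532479683774853939200) (g : G) : ∃ a b : G, a * b * a⁻¹ * b⁻¹ = g := by
  have h : RowA (G ⧸ Subgroup.center G) := by
    rcases res Q hkn hperf hs hA6 hA7 hL34 hU43 with h | ⟨h, -⟩
    · exact h
    · exfalso
      rcases h with ⟨F, _, _, hF, h⟩ | h | h | ⟨F, _, _, hF, ⟨e⟩⟩
      · exact hU62 F hF h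
      · exact hM22 (Cfsg.Agent.H417.RecogMathieu.isM22 h)
      · obtain ⟨e⟩ := h
        refine hFi22 ⟨hs, ?_⟩
        rw [Nat.card_congr e.toEquiv]
        exact Cfsg.Agent.Fischer.Fi22Order.card_fi22
      · apply hE
        rw [Nat.card_congr e.toEquiv]
        exact hcard F hF
  obtain ⟨a, b, e⟩ := h.result hperf (MulEquiv.refl _) g
  exact ⟨a, b, e.symm⟩

end final

end Cfsg.Agent.H860.QS
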