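import Cfsg.Agent.H860.QS.Asm
import Cfsg.Agent.H523.QO.A1
import Cfsg.Agent.H383.QS.Rows
import Cfsg.Agent.H972.QS.TStar
import Cfsg.Agent.H926.QS.O73Row
import Cfsg.Agent.H204.QS.SpSix
import Cfsg.Agent.H815.QS.OEight
import Cfsg.Agent.H347.HX.G23.Row
import Cfsg.Agent.H509.QS.Row
import Cfsg.Agent.H374.QS.FF.Row
import Cfsg.Agent.H92.QS.ESix
import Cfsg.Agent.H231.QS.Row2E6
import Cfsg.Agent.H643.QO.ESeven
import Cfsg.Agent.H788.QS.SzRow
import Cfsg.Agent.H109.QO.MTwelve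
import Cfsg.Agent.H109.QO.JTwo
import Cfsg.Agent.H767.QO.HSRow
import Cfsg.Agent.H344.QS.McL
import Cfsg.Agent.H90.QS.Suz
import Cfsg.Agent.H514.QS.J3Row
import Cfsg.Agent.H33.QRu.Row
import Cfsg.Agent.H890.QON.Row

/-!
# S2491, S2492: the landed rows in the form of `QRows`

`rows_of` : everything except `ore` (S2443), `co1`, `fi24`, `b` and the four rows of S2491.
-/

set_option autoImplicit false

namespace Cfsg.Agent.H860.QS

open Cfsg.Agent.H777.Ore Cfsg.Agent.H51.Mult Cfsg.Agent.H6.QO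

universe u

theorem f_alt (n : ℕ) (hn : 5 ≤ n) (h6 : n ≠ 6) (h7 : n ≠ 7) : RowA (alternatingGroup (Fin n)) :=
  H523.QO.ra_alt hn h6 h7

theorem f_psl (F : Type) [Field F] [Fintype F] (n : ℕ) (hn : 2 ≤ n) (h4 : n = 2 → 4 ≤ Fintype.card F)
    (h9 : ¬ (n = 2 ∧ Fintype.card F = 9)) (h34 : ¬ (n = 3 ∧ Fintype.card F = 4)) :
    RowA (Matrix.ProjectiveSpecialLinearGroup (Fin n) F) := H523.QO.ra_psl hn h4 h9 h34

theorem f_psp (F : Type) [Field F] [Fintype F] (m : ℕ) (hm : 2 ≤ m) (h3 : m = 2 → 3 ≤ Fintype.card F)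
    (h62 : ¬ (m = 3 ∧ Fintype.card F = 2)) : RowA (PSp m F) := H523.QO.ra_psp hm h3 h62

theorem f_psu (F : Type) [Field F] [Fintype F] (n q : ℕ) (hF : Fintype.card F = q ^ 2) (hn : 3 ≤ n)
    (hex : ¬ (n = 3 ∧ q = 2)) (h43 : ¬ (n = 4 ∧ q = 3)) (h62 : ¬ (n = 6 ∧ q = 2)) : RowA (PSU n F q) :=
  H523.QO.ra_psu hF hn hex h43 h62

theorem f_psp62 (F : Type) [Field F] [Fintype F] (hF : Fintype.card F = 2) : RowA (PSp 3 F) :=
  H204.QS.SpSix.rowA_PSp hF

theorem two_ne {F : Type} [Field F] [Fintype F] (ho : Odd (Fintype.card F)) : (2 : F) ≠ 0 := by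
  intro h
  have h1 : ringChar F ∣ 2 := ringChar.dvd (by exact_mod_cast h)
  have h2 : ringChar F = 2 := ((Nat.dvd_prime Nat.prime_two).1 h1).resolve_left CharP.ringChar_ne_one
  have h3 := FiniteField.even_card_of_char_two h2
  rw [Nat.odd_iff] at ho
  omega

theorem f_poo (F : Type) [Field F] [Fintype F] (m : ℕ) (hm : 3 ≤ m) (ho : Odd (Fintype.card F)) :
    RowA (POmega F (quadFormOdd m F)) := by
  by_cases h : m = 3 ∧ Fintype.card F = 3
  · obtain ⟨rfl, hF⟩ := h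
    exact H926.QS.O73Row.rowA_O73 hF
  · exact H383.QS.row_odd (two_ne ho) hm h

theorem f_pop (F : Type) [Field F] [Fintype F] (m : ℕ) (hm : 4 ≤ m) (ho : Odd (Fintype.card F)) :
    RowA (POmega F (quadFormPlus m F)) := H972.QS.ra_plus (two_ne ho) hm

theorem f_pop82 (F : Type) [Field F] [Fintype F] (hF : Fintype.card F = 2) :
    RowA (POmega F (quadFormPlus 4 F)) := H815.QS.rowA_pop82 F hF

theorem f_pom (F : Type) [Field F] [Fintype F] (m : ℕ) (a b : F) (hm : 4 ≤ m) (ho : Odd (Fintype.card F))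
    (hab : ∀ z₁ z₂ : F, z₁ ^ 2 + a * z₁ * z₂ + b * z₂ ^ 2 = 0 → z₁ = 0 ∧ z₂ = 0) :
    RowA (POmega F (quadFormMinus (m - 1) F a b)) := H972.QS.ra_minus (two_ne ho) (by omega) a b hab

theorem f_g23 (F : Type) [Field F] [Fintype F] (hF : Fintype.card F = 3) : RowA ↥(Lie.chevG2.group F) :=
  H347.HX.G23.rowA hF

theorem f_g24 (F : Type) [Field F] [Fintype F] (hF : Fintype.card F = 4) : RowA ↥(Lie.chevG2.group F) :=
  H509.QS.rowA_g2_four hF

theorem f_f42 (F : Type) [Field F] [Fintype F] (hF : Fintype.card F = 2) : RowA ↥(Lie.chevF4.group F) :=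
  H374.QS.FF.rowA hF

theorem f_e6 (F : Type) [Field F] [Fintype F] (hF : 4 ≤ Nat.card F) : RowA ↥(Lie.chevE6.group F) :=
  H92.QS.rowA_E6 hF

theorem f_te6 (F : Type) [Field F] [Fintype F] (q : ℕ) (hq : IsPrimePow q) (hF : Fintype.card F = q ^ 2)
    (h3 : 3 ∣ q + 1) (h2 : q ≠ 2) : RowA ↥(Lie.twistedE6 F q) :=
  H231.QS.Row2E6.rowA_twistedE6 hq hF (by omega) h2

theorem f_e7 (F : Type) [Field F] [Fintype F] (ho : Odd (Fintype.card F)) : RowA ↥(Lie.chevE7.group F) :=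
  fun _ _ _ _ hπ => H643.QO.allC_cover_E7 F ho hπ

theorem f_sz8 (F : Type) [Field F] [Fintype F] (hF : Fintype.card F = 8) : RowA ↥(Lie.Sz F 4) :=
  H788.QS.Sz.rowA' hF

theorem f_m12 (K : Type u) [Group K] (h : Spor.IsoM12 K) : RowA K := H109.QO.MTwelve.row_m12 h

theorem f_j2 (K : Type u) [Group K] (h : Spor.IsoJ2 K) : RowA K := H109.QO.JTwo.row_j2 h

theorem f_hs (K : Type u) [Group K] (h : Spor.IsoHS K) : RowA K :=
  fun L _ _ π hπ => H767.QO.HS.row_hs h L π hπ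

theorem f_mcl (K : Type u) [Group K] (h : Spor.IsoMcL K) : RowA K := H344.QS.McL.rowA_mcl h

theorem f_suz (K : Type u) [Group K] (h : Spor.IsoSuz K) : RowA K := by
  obtain ⟨e⟩ := h
  exact H90.QS.Suz.rowA_Suz.congr e.symm

theorem f_j3 (K : Type u) [Group K] (h : Spor.IsoJ3 K) : RowA K := H514.QS.rowA_j3 h

theorem f_ru (K : Type u) [Group K] (h : Spor.IsoRu K) : RowA K := H33.QRu.row_ru h

theorem f_on (K : Type u) [Group K] (h : Spor.IsoON K) : RowA K := H890.QON.rowA_on h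

/-- **the rows**: everything which is landed; `N = False` is S2492 -/
theorem rows_of {N : Prop}
    (ore : ∀ (K : Type u) [Group K] [Finite K] [IsSimpleGroup K], ¬ IsMulCommutative K → AllC K)
    (co1 : ∀ (K : Type u) [Group K], Spor.IsoCo1 K → RowA K)
    (fi24 : ∀ (K : Type u) [Group K], Spor.IsoFi24' K → RowA K)
    (b : ∀ (K : Type u) [Group K], Spor.IsoB K → RowA K)
    (psu62 : N → ∀ (F : Type) [Field F] [Fintype F], Fintype.card F = 4 → RowN (PSU 6 F 2))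
    (te62 : N → ∀ (F : Type) [Field F] [Fintype F], Fintype.card F = 4 → RowN ↥(Lie.twistedE6 F 2))
    (m22 : N → ∀ (K : Type u) [Group K], Spor.IsoM22 K → RowN K)
    (fi22 : N → ∀ (K : Type u) [Group K], Spor.IsoFi22 K → RowN K) : QRows.{u} N where
  ore := ore
  alt := f_alt
  psl := f_psl
  psp := f_psp
  psu := f_psu
  psp62 := f_psp62
  psu62 := psu62
  poo := f_poo
  pop := f_pop
  pop82 := f_pop82
  pom := f_pom
  g23 := f_g23
  g24 := f_g24
  f42 := f_f42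
  e6 := f_e6
  te6 := f_te6
  e7 := f_e7
  te62 := te62
  sz8 := f_sz8
  m22 := m22
  m12 := f_m12
  j2 := f_j2
  hs := f_hs
  mcl := f_mcl
  suz := f_suz
  j3 := f_j3
  ru := f_ru
  on := f_on
  co1 := co1
  fi22 := fi22
  fi24 := fi24
  b := b

/-- the rows for S2492 -/
theorem rows_false
    (ore : ∀ (K : Type u) [Group K] [Finite K] [IsSimpleGroup K], ¬ IsMulCommutative K → AllC K)
    (co1 : ∀ (K : Type u) [Group K], Spor.IsoCo1 K → RowA K)
    (fi24 : ∀ (K : Type u) [Group K], Spor.IsoFi24' K → RowA K)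
    (b : ∀ (K : Type u) [Group K], Spor.IsoB K → RowA K) : QRows.{u} False :=
  rows_of ore co1 fi24 b (fun h => h.elim) (fun h => h.elim) (fun h => h.elim) (fun h => h.elim)

end Cfsg.Agent.H860.QS
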