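import Cfsg.Agent.H860.QS.Fill
import Cfsg.Agent.S2443
import Cfsg.Agent.S1066

/-!
# S2492 from the rows `2.Co1`, `3.Fi24'`, `2.B`
-/

set_option autoImplicit false

namespace Cfsg.Agent.H860.QS

open Cfsg.Agent.H777.Ore Cfsg.Agent.H51.Mult Cfsg.Agent.H6.QO

universe u

/-- S2443 -/
theorem ore_all (K : Type u) [Group K] [Finite K] [IsSimpleGroup K] (h : ¬ IsMulCommutative K) : AllC K :=
  fun g => Cfsg.Agent.S2443.result h g

/-- the order of `²E₆(2)` -/
theorem card_te62 (F : Type) [Field F] [Fintype F] (hF : Fintype.card F = 4) :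
    Nat.card ↥(Lie.twistedE6 F 2) = 76532479683774853939200 := by
  have h := Cfsg.Agent.S1066.result (K := F) (q := 2) Nat.prime_two.isPrimePow (by rw [hF]; norm_num)
  norm_num at h
  omega

/-- **S2492 from the three rows** -/
theorem s2492_of (co1 : ∀ (K : Type u) [Group K], Spor.IsoCo1 K → RowA K)
    (fi24 : ∀ (K : Type u) [Group K], Spor.IsoFi24' K → RowA K)
    (b : ∀ (K : Type u) [Group K], Spor.IsoB K → RowA K)
    {G : Type u} [Group G] [Finite G] (hperf : commutator G = ⊤) (hs : IsSimpleGroup (G ⧸ Subgroup.center G))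
    (hA6 : ¬ Nonempty (G ⧸ Subgroup.center G ≃* alternatingGroup (Fin 6)))
    (hA7 : ¬ Nonempty (G ⧸ Subgroup.center G ≃* alternatingGroup (Fin 7)))
    (hL34 : ∀ (F : Type) [Field F] [Fintype F], Fintype.card F = 4 →
      ¬ Nonempty (G ⧸ Subgroup.center G ≃* Matrix.ProjectiveSpecialLinearGroup (Fin 3) F))
    (hU43 : ∀ (F : Type) [Field F] [Fintype F], Fintype.card F = 9 →
      ¬ Nonempty (G ⧸ Subgroup.center G ≃* Cfsg.PSU 4 F 3))
    (hU62 : ∀ (F : Type) [Field F] [Fintype F], Fintype.card F = 4 →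
      ¬ Nonempty (G ⧸ Subgroup.center G ≃* Cfsg.PSU 6 F 2))
    (hM22 : ¬ Cfsg.IsM22 (G ⧸ Subgroup.center G)) (hFi22 : ¬ Cfsg.IsFi22 (G ⧸ Subgroup.center G))
    (hE : Nat.card (G ⧸ Subgroup.center G) ≠ 76532479683774853939200)
    (g : G) : ∃ a b : G, a * b * a⁻¹ * b⁻¹ = g :=
  s2492 (rows_false ore_all co1 fi24 b)
    (fun K _ _ _ => Cfsg.Agent.S0000.result) hperf hs hA6 hA7 hL34 hU43 hU62 hM22 hFi22 hE card_te62 g

end Cfsg.Agent.H860.QS
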